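import Mathlib
import Cfsg.Agent.H29.HND.D0
import Cfsg.Agent.H29.HND.D1
import Cfsg.Agent.H29.HKV

set_option autoImplicit false
set_option maxRecDepth 100000
set_option Elab.async false
set_option linter.all false

namespace H29.HND

open H19
noncomputable def FT (i : ℕ) : DFact :=
  (Bool.rec (Bool.rec (Bool.rec (Bool.rec (Bool.rec (Bool.rec (Bool.rec f0 f1 (Nat.ble 1 i)) (Bool.rec f2 (Bool.rec f3 f4 (Nat.ble 4 i)) (Nat.ble 3 i)) (Nat.ble 2 i)) (Bool.rec (Bool.rec f5 f6 (Nat.ble 6 i)) (Bool.rec f7 (Bool.rec f8 f9 (Nat.ble 9 i)) (Nat.ble 8 i)) (Nat.ble 7 i)) (Nat.ble 5 i)) (Bool.rec (Bool.rec (Bool.rec f10 f11 (Nat.ble 11 i)) (Bool.rec f12 (Bool.rec f13 f14 (Nat.ble 14 i)) (Nat.ble 13 i)) (Nat.ble 12 i)) (Bool.rec (Bool.rec f15 (Bool.rec f16 f17 (Nat.ble 17 i)) (Nat.ble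 16 i)) (Bool.rec f18 (Bool.rec f19 f20 (Nat.ble 20 i)) (Nat.ble 19 i)) (Nat.ble 18 i)) (Nat.ble 15 i)) (Nat.ble 10 i)) (Bool.rec (Bool.rec (Bool.rec (Bool.rec f21 f22 (Nat.ble 22 i)) (Bool.rec f23 (Bool.rec f24 f25 (Nat.ble 25 i)) (Nat.ble 24 i)) (Nat.ble 23 i)) (Bool.rec (Bool.rec f26 (Bool.rec f27 f28 (Nat.ble 28 i)) (Nat.ble 27 i)) (Bool.rec f29 (Bool.rec f30 f31 (Nat.ble 31 i)) (Nat.ble 30 i)) (Nat.ble 29 i)) (Nat.ble 26 i)) (Bool.rec (Bool.rec (Bool.rec f32 f33 (Nat.ble 33 i)) (Bool.rec f34 (Bool.rec f35 f36 (Nat.ble 36 i)) (Nat.ble 35 i)) (Nat.ble 34 i)) (Bool.rec (Bool.rec f37 (Bool.rec f38 f39 (Nat.ble 39 i)) (Nat.ble 38 i)) (Bool.rec f40 (Bool.rec f41 f42 (Nat.ble 42 i)) (Nat.ble 41 i)) (Nat.ble 40 i)) (Nat.ble 37 i)) (Nat.ble 32 i)) (Nat.ble 21 i)) (Bool.rec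 (Bool.rec (Bool.rec (Bool.rec (Bool.rec f43 f44 (Nat.ble 44 i)) (Bool.rec f45 (Bool.rec f46 f47 (Nat.ble 47 i)) (Nat.ble 46 i)) (Nat.ble 45 i)) (Bool.rec (Bool.rec f48 f49 (Nat.ble 49 i)) (Bool.rec f50 (Bool.rec f51 f52 (Nat.ble 52 i)) (Nat.ble 51 i)) (Nat.ble 50 i)) (Nat.ble 48 i)) (Bool.rec (Bool.rec (Bool.rec f53 f54 (Nat.ble 54 i)) (Bool.rec f55 (Bool.rec f56 f57 (Nat.ble 57 i)) (Nat.ble 56 i)) (Nat.ble 55 i)) (Bool.rec (Bool.rec f58 (Bool.rec f59 f60 (Nat.ble 60 i)) (Nat.ble 59 i)) (Bool.rec f61 (Bool.rec f62 f63 (Nat.ble 63 i)) (Nat.ble 62 i)) (Nat.ble 61 i)) (Nat.ble 58 i)) (Nat.ble 53 i)) (Bool.rec (Bool.rec (Bool.rec (Bool.rec f64 f65 (Nat.ble 65 i)) (Bool.rec f66 (Bool.rec f67 f68 (Nat.ble 68 i)) (Nat.ble 67 i)) (Nat.ble 66 i)) (Bool.rec (Bool.rec f69 (Bool.rec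 f70 f71 (Nat.ble 71 i)) (Nat.ble 70 i)) (Bool.rec f72 (Bool.rec f73 f74 (Nat.ble 74 i)) (Nat.ble 73 i)) (Nat.ble 72 i)) (Nat.ble 69 i)) (Bool.rec (Bool.rec (Bool.rec f75 f76 (Nat.ble 76 i)) (Bool.rec f77 (Bool.rec f78 f79 (Nat.ble 79 i)) (Nat.ble 78 i)) (Nat.ble 77 i)) (Bool.rec (Bool.rec f80 (Bool.rec f81 f82 (Nat.ble 82 i)) (Nat.ble 81 i)) (Bool.rec f83 (Bool.rec f84 f85 (Nat.ble 85 i)) (Nat.ble 84 i)) (Nat.ble 83 i)) (Nat.ble 80 i)) (Nat.ble 75 i)) (Nat.ble 64 i)) (Nat.ble 43 i)) (Bool.rec (Bool.rec (Bool.rec (Bool.rec (Bool.rec (Bool.rec f86 f87 (Nat.ble 87 i)) (Bool.rec f88 (Bool.rec f89 f90 (Nat.ble 90 i)) (Nat.ble 89 i)) (Nat.ble 88 i)) (Bool.rec (Bool.rec f91 f92 (Nat.ble 92 i)) (Bool.rec f93 (Bool.rec f94 f95 (Nat.ble 95 i)) (Nat.ble 94 i)) (Nat.ble 93 i)) (Nat.ble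 91 i)) (Bool.rec (Bool.rec (Bool.rec f96 f97 (Nat.ble 97 i)) (Bool.rec f98 (Bool.rec f99 f100 (Nat.ble 100 i)) (Nat.ble 99 i)) (Nat.ble 98 i)) (Bool.rec (Bool.rec f101 (Bool.rec f102 f103 (Nat.ble 103 i)) (Nat.ble 102 i)) (Bool.rec f104 (Bool.rec f105 f106 (Nat.ble 106 i)) (Nat.ble 105 i)) (Nat.ble 104 i)) (Nat.ble 101 i)) (Nat.ble 96 i)) (Bool.rec (Bool.rec (Bool.rec (Bool.rec f107 f108 (Nat.ble 108 i)) (Bool.rec f109 (Bool.rec f110 f111 (Nat.ble 111 i)) (Nat.ble 110 i)) (Nat.ble 109 i)) (Bool.rec (Bool.rec f112 (Bool.rec f113 f114 (Nat.ble 114 i)) (Nat.ble 113 i)) (Bool.rec f115 (Bool.rec f116 f117 (Nat.ble 117 i)) (Nat.ble 116 i)) (Nat.ble 115 i)) (Nat.ble 112 i)) (Bool.rec (Bool.rec (Bool.rec f118 f119 (Nat.ble 119 i)) (Bool.rec f120 (Bool.rec f121 f122 (Nat.ble 122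 i)) (Nat.ble 121 i)) (Nat.ble 120 i)) (Bool.rec (Bool.rec f123 (Bool.rec f124 f125 (Nat.ble 125 i)) (Nat.ble 124 i)) (Bool.rec f126 (Bool.rec f127 f128 (Nat.ble 128 i)) (Nat.ble 127 i)) (Nat.ble 126 i)) (Nat.ble 123 i)) (Nat.ble 118 i)) (Nat.ble 107 i)) (Bool.rec (Bool.rec (Bool.rec (Bool.rec (Bool.rec f129 f130 (Nat.ble 130 i)) (Bool.rec f131 (Bool.rec f132 f133 (Nat.ble 133 i)) (Nat.ble 132 i)) (Nat.ble 131 i)) (Bool.rec (Bool.rec f134 f135 (Nat.ble 135 i)) (Bool.rec f136 (Bool.rec f137 f138 (Nat.ble 138 i)) (Nat.ble 137 i)) (Nat.ble 136 i)) (Nat.ble 134 i)) (Bool.rec (Bool.rec (Bool.rec f139 f140 (Nat.ble 140 i)) (Bool.rec f141 (Bool.rec f142 f143 (Nat.ble 143 i)) (Nat.ble 142 i)) (Nat.ble 141 i)) (Bool.rec (Bool.rec f144 (Bool.rec f145 f146 (Nat.ble 146 i)) (Nat.ble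 145 i)) (Bool.rec f147 (Bool.rec f148 f149 (Nat.ble 149 i)) (Nat.ble 148 i)) (Nat.ble 147 i)) (Nat.ble 144 i)) (Nat.ble 139 i)) (Bool.rec (Bool.rec (Bool.rec (Bool.rec f150 f151 (Nat.ble 151 i)) (Bool.rec f152 (Bool.rec f153 f154 (Nat.ble 154 i)) (Nat.ble 153 i)) (Nat.ble 152 i)) (Bool.rec (Bool.rec f155 (Bool.rec f156 f157 (Nat.ble 157 i)) (Nat.ble 156 i)) (Bool.rec f158 (Bool.rec f159 f160 (Nat.ble 160 i)) (Nat.ble 159 i)) (Nat.ble 158 i)) (Nat.ble 155 i)) (Bool.rec (Bool.rec (Bool.rec f161 f162 (Nat.ble 162 i)) (Bool.rec f163 (Bool.rec f164 f165 (Nat.ble 165 i)) (Nat.ble 164 i)) (Nat.ble 163 i)) (Bool.rec (Bool.rec f166 (Bool.rec f167 f168 (Nat.ble 168 i)) (Nat.ble 167 i)) (Bool.rec f169 (Bool.rec f170 f171 (Nat.ble 171 i)) (Nat.ble 170 i)) (Nat.ble 169 i)) (Nat.ble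 166 i)) (Nat.ble 161 i)) (Nat.ble 150 i)) (Nat.ble 129 i)) (Nat.ble 86 i))
def BR : List (List (List ℕ)) := [[[0, 0], [0, 0], [0, 0], [0, 0], [0, 0]], [[1], [0, 0], [0]], [[0, 0, 4], [0, 0, 4], [0, 0, 4]]]
def TO : List (ℕ × ℕ × ℕ) := [(0, 0, 0), (1, 0, 0), (1, 1, 0), (1, 2, 0), (2, 0, 0)]
noncomputable def D : DD := ⟨HM56.P.mul, HM56.P.one, HM56.P.chkRed 3, HM56.lc, fun c => c, HK.dl,
  tpls (ivOf HKM.ivl) [] BR TO, [(0, []), (0, []), (1, [4]), (1, [4, 0]), (1, [4, 2, 4]), (1, [4, 2, 4, 0]), (1, [4, 2, 4, 2, 4]), (2, [2, 4]), (5, [4, 5, 4, 1]), (7, [6, 4, 1])], FT⟩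
def l0 : DLive := ⟨0, [9, 10, 11], [[0], [2], [4]], [0], [[]]⟩
def l1 : DLive := ⟨1, [1, 3, 5, 7], [[2], [5], [7], [9]], [12, 13, 14, 15, 16, 17, 22, 27, 169, 53, 72], [[], [0], [0, 0], [1], [3, 3, 4, 0, 0], [4], [4, 1], [4, 0], [4, 2, 4], [4, 2, 4, 0], [4, 2, 4, 2, 4]]⟩
def l2 : DLive := ⟨2, [18, 19, 26], [[3, 7], [7, 9], [4, 0]], [20, 24, 23, 31, 170, 51, 171, 57, 64, 69, 83, 91, 96, 112], [[], [4, 0, 0], [1], [0, 0], [3, 3, 4, 0, 0], [3, 10, 5, 10, 2, 6, 4, 2], [1, 7, 10, 3, 5, 7, 10, 4, 5], [1, 5, 2, 4, 0], [4, 8, 3, 4, 2, 5, 5, 2, 5, 4], [10, 6, 4, 7, 10, 6, 7, 3, 0], [3, 5, 4, 2, 4, 6, 3, 6, 7, 5, 2], [2, 4], [9, 2, 10, 4, 0, 7, 6, 9, 9, 9, 4], [3, 3, 4, 2, 5, 4]]⟩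
def l3 : DLive := ⟨3, [28, 29, 35, 38, 49], [[3, 7], [6, 9, 7, 5], [0, 0], [4, 0, 0], [9, 2, 10, 4, 9, 5, 2, 8, 6, 2, 4, 1]], [30, 32, 59, 104], [[], [1], [3, 3, 4, 0, 0], [5, 4, 1]]⟩
def l4 : DLive := ⟨5, [54, 55, 60, 67], [[2, 6, 6, 2, 5], [7, 9, 7, 2, 6, 9, 2], [4, 7, 3, 7, 10, 7, 10, 10, 4], [6, 4, 1, 5, 7, 7, 5, 10, 10, 6]], [56, 62, 58, 61, 63, 68, 70, 71, 77, 86, 98, 107, 114, 116, 118, 137], [[], [0], [0, 0, 7, 5, 8, 5, 4], [0, 0, 10, 7, 2, 2, 5, 4], [0, 0], [3, 3, 4, 0, 0], [4, 10, 4, 3, 9, 2, 6, 6, 7], [0, 10, 4, 0, 9, 5, 3, 9, 3, 4], [8, 3, 4, 0, 0], [6, 4, 2, 7, 10, 6, 7, 4], [1, 8, 4, 10, 2, 7, 9, 9, 7], [3, 3, 4, 2, 4, 2, 10, 10, 6, 8, 9], [3, 4, 0], [8, 3, 4, 3, 3, 4], [10, 7, 2, 2, 5, 4], [4, 5, 4, 1]]⟩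
def l5 : DLive := ⟨6, [73, 75, 74, 85], [[3, 7, 9, 2, 10, 8], [6, 3, 6, 2, 9, 5], [2, 8, 5, 7, 7, 10, 6], [4, 3, 4, 3, 4, 0, 0, 3, 8, 9, 9, 3, 10]], [76, 79, 80, 78, 81, 82, 87, 88, 89, 90, 100, 120, 122, 124, 126, 147], [[], [0], [0, 0], [1, 5, 8, 3, 5, 10, 10, 4, 0], [5, 7, 5, 7, 7, 1], [3, 3, 4, 0, 0], [3, 4, 6, 4, 5, 9, 5, 2, 7, 9], [8, 6, 10, 8, 6, 9, 9, 4], [2, 4, 3, 4, 3, 7, 7, 2, 8, 3, 8], [9, 6, 4, 9, 2, 4, 6, 6, 10, 6, 10, 1], [3, 3, 4, 9, 6, 10, 10, 8, 3, 4], [0, 5, 8, 3, 5, 10, 10, 4], [9, 9, 2, 4, 2, 10, 3, 9, 3, 5, 7, 4], [4, 8, 3, 4, 8, 6, 2, 5, 10, 7], [3, 3, 4, 2, 5, 4], [9, 9, 2, 4, 2, 9, 9, 7, 10, 8, 6, 4]]⟩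
def l6 : DLive := ⟨7, [92, 93, 105, 111], [[10, 6, 2, 2, 2, 5, 9], [8, 6, 10, 5, 7, 3], [4, 9, 5, 10, 3, 9, 8, 10, 4], [3, 4, 8, 6, 7, 5, 8, 9]], [94, 103, 97, 106, 108, 95, 99, 101, 102, 113, 115, 117, 119, 121, 123, 125, 127, 128, 129, 130, 131, 132, 133, 134, 135, 136, 143, 145, 152, 154], [[], [4, 0, 0], [0, 0], [2, 8, 3, 4, 0, 0], [9, 6, 8, 4, 0, 0], [0], [3, 3, 4, 0, 0], [6, 4, 0, 0], [7, 5, 8, 10, 2, 7, 9, 4, 0], [9, 6, 10, 7, 3, 9, 6, 4, 0], [4, 6, 6, 3, 9, 2, 9, 2], [1, 8, 4, 7, 10, 6, 7, 2, 4, 0], [4, 0, 5, 7, 5, 10, 6, 9], [2, 8, 3, 4, 5, 5, 3, 9, 7, 1], [4, 1, 9, 2, 4, 5, 7, 6, 7, 7], [4, 1, 10, 6, 2, 2, 7, 7, 4, 0], [6, 4, 10, 6, 4, 0, 8, 5, 9, 6], [1, 5, 2, 4, 0], [4, 1], [4, 6, 4], [4, 2, 2, 8, 3, 8, 4, 0], [2, 8, 3, 4, 8, 3, 4], [6, 8, 4, 3, 4, 5, 5, 5,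 8, 5, 4, 7], [2, 8, 3, 4, 2, 9, 2, 4], [3, 3, 4, 2, 8, 4], [4, 10, 4, 6, 4, 5, 2, 8, 9, 2, 10, 1], [4, 2, 6, 10, 3, 7, 10, 7, 4, 1], [10, 4, 10, 6, 4, 6, 8, 6, 10, 5, 3], [5, 8, 10, 2, 10, 5, 10, 4], [6, 4, 1]]⟩
def l7 : DLive := ⟨8, [138, 139, 150], [[5, 5, 8, 10, 10, 7], [2, 9, 5, 5, 5, 10, 3], [1, 9, 2, 4, 3, 8, 10, 5, 10, 2, 0]], [140, 141, 142, 146, 144, 151, 153], [[], [0], [0, 0], [3, 3, 4, 0, 0], [1], [6, 4, 0, 0], [0, 0, 2, 7, 7, 10, 4]]⟩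
def l8 : DLive := ⟨9, [155, 156, 157, 161, 164, 167], [[6, 2, 5, 8], [5, 8, 5, 5, 8, 5], [2, 10, 7, 10, 2, 2, 7], [0, 0, 7, 9, 9, 9, 6, 7, 9], [1, 9, 9, 8, 5, 5, 2], [8, 4, 0, 0, 7, 3, 9, 7, 3]], [158, 168], [[], [8, 3, 4, 0, 0]]⟩
def LV : List DLive := [l0, l1, l2, l3, l4, l5, l6, l7, l8]

end H29.HND
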