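import Mathlib
import Cfsg.Agent.H29.HND.B

set_option autoImplicit false
set_option maxRecDepth 100000
set_option Elab.async false
set_option linter.all false

namespace H29.HND

open H19
def PF0 : List DPf := [⟨0, 0, 0, [], [], []⟩,
 ⟨2, 0, 0, [2], [⟨0, 0, []⟩, ⟨1, 0, []⟩], [⟨1, 0, [2]⟩]⟩,
 ⟨2, 0, 0, [3], [⟨0, 0, []⟩, ⟨1, 0, []⟩], [⟨1, 0, [3]⟩]⟩,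
 ⟨2, 0, 0, [5], [⟨0, 0, []⟩, ⟨1, 0, []⟩], [⟨1, 0, [5]⟩]⟩,
 ⟨2, 0, 0, [6], [⟨0, 0, []⟩, ⟨1, 0, []⟩], [⟨1, 0, [6]⟩]⟩,
 ⟨2, 0, 0, [7], [⟨0, 0, []⟩, ⟨1, 0, []⟩], [⟨1, 0, [7]⟩]⟩,
 ⟨2, 0, 0, [8], [⟨0, 0, []⟩, ⟨1, 0, []⟩], [⟨1, 0, [8]⟩]⟩,
 ⟨2, 0, 0, [9], [⟨0, 0, []⟩, ⟨1, 0, []⟩], [⟨1, 0, [9]⟩]⟩,
 ⟨2, 0, 0, [10], [⟨0, 0, []⟩, ⟨1, 0, []⟩], [⟨1, 0, [10]⟩]⟩,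
 ⟨1, 0, 0, [], [], [⟨0, 0, [0]⟩]⟩,
 ⟨1, 0, 0, [], [], [⟨0, 0, [2]⟩]⟩,
 ⟨1, 0, 0, [], [], [⟨0, 0, [4]⟩]⟩,
 ⟨4, 0, 1, [], [⟨1, 0, []⟩], []⟩,
 ⟨6, 1, 13, [0], [], [⟨1, 12, []⟩, ⟨0, 0, []⟩, ⟨1, 0, []⟩]⟩,
 ⟨7, 1, 13, [1, 1], [], [⟨1, 12, []⟩, ⟨0, 0, []⟩, ⟨1, 0, []⟩]⟩,
 ⟨4, 1, 15, [], [⟨1, 14, []⟩], []⟩,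
 ⟨9, 1, 13, [3, 3, 4, 1, 1], [], [⟨1, 12, [3, 3]⟩, ⟨0, 0, []⟩, ⟨1, 0, []⟩]⟩,
 ⟨0, 0, 0, [], [], []⟩,
 ⟨2, 1, 18, [], [⟨1, 17, []⟩], [⟨1, 5, []⟩, ⟨1, 2, []⟩, ⟨1, 17, [3, 7]⟩]⟩,
 ⟨2, 1, 18, [], [⟨1, 17, []⟩], [⟨1, 7, []⟩, ⟨1, 5, []⟩, ⟨1, 17, [7, 9]⟩]⟩,
 ⟨4, 1, 18, [], [⟨1, 17, []⟩], []⟩,
 ⟨6, 2, 21, [0], [], [⟨1, 20, []⟩, ⟨1, 2, []⟩, ⟨1, 2, []⟩, ⟨1, 16, []⟩]⟩,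
 ⟨4, 2, 22, [], [⟨1, 21, []⟩], []⟩,
 ⟨8, 2, 21, [1], [], [⟨1, 20, []⟩, ⟨1, 22, []⟩]⟩,
 ⟨9, 2, 21, [4, 1, 1], [], [⟨1, 20, []⟩, ⟨1, 14, []⟩]⟩,
 ⟨4, 2, 25, [], [⟨1, 24, []⟩], []⟩,
 ⟨2, 1, 26, [], [⟨1, 25, []⟩], [⟨1, 22, []⟩]⟩,
 ⟨0, 0, 0, [], [], []⟩,
 ⟨2, 1, 28, [], [⟨1, 27, []⟩], [⟨1, 5, []⟩, ⟨1, 2, []⟩, ⟨1, 27, [3, 7]⟩]⟩,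
 ⟨2, 1, 28, [], [⟨1, 27, []⟩], [⟨1, 7, []⟩, ⟨1, 5, []⟩, ⟨1, 27, [6, 9, 7, 5]⟩]⟩,
 ⟨4, 1, 28, [], [⟨1, 27, []⟩], []⟩,
 ⟨7, 2, 21, [1, 1], [], [⟨1, 20, []⟩, ⟨1, 27, []⟩]⟩,
 ⟨4, 2, 32, [], [⟨1, 31, []⟩], []⟩,
 ⟨5, 3, 31, [1, 1], [], [⟨1, 30, []⟩, ⟨1, 22, []⟩, ⟨1, 23, []⟩, ⟨1, 26, []⟩, ⟨1, 24, []⟩]⟩,
 ⟨4, 3, 34, [], [⟨1, 33, []⟩], []⟩,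
 ⟨2, 1, 35, [], [⟨1, 34, []⟩], [⟨1, 27, []⟩]⟩,
 ⟨9, 3, 31, [4, 1, 1], [], [⟨1, 30, []⟩, ⟨1, 13, []⟩]⟩,
 ⟨4, 3, 37, [], [⟨1, 36, []⟩], []⟩,
 ⟨2, 1, 38, [], [⟨1, 37, []⟩], [⟨1, 27, []⟩]⟩,
 ⟨0, 0, 0, [], [], []⟩,
 ⟨2, 1, 40, [], [⟨1, 39, []⟩], [⟨1, 3, []⟩, ⟨1, 7, []⟩, ⟨1, 1, []⟩, ⟨1, 1, []⟩, ⟨1, 39, [3, 9, 8, 5, 10, 10]⟩]⟩,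
 ⟨4, 1, 40, [], [⟨1, 39, []⟩], []⟩,
 ⟨9, 2, 21, [3, 3, 4, 1, 1], [], [⟨1, 20, [3, 3]⟩, ⟨1, 7, []⟩, ⟨1, 7, []⟩, ⟨1, 5, []⟩, ⟨1, 2, []⟩, ⟨1, 39, [3, 6, 7, 10, 10, 10]⟩]⟩,
 ⟨9, 3, 31, [2, 5, 4, 1, 1], [], [⟨1, 30, [2, 5]⟩, ⟨1, 8, []⟩, ⟨1, 1, []⟩, ⟨1, 7, []⟩, ⟨1, 39, [6, 9, 2, 10, 2, 5]⟩]⟩,
 ⟨4, 3, 44, [], [⟨1, 43, []⟩], []⟩,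
 ⟨6, 4, 42, [0], [], [⟨1, 41, []⟩, ⟨1, 7, []⟩, ⟨1, 2, []⟩, ⟨1, 7, []⟩, ⟨1, 1, []⟩, ⟨1, 39, [2, 6, 7, 2, 7, 5, 8]⟩]⟩,
 ⟨9, 4, 42, [6, 4, 1, 1], [], [⟨1, 41, [6]⟩, ⟨1, 6, []⟩, ⟨1, 16, [7, 6, 8, 2]⟩]⟩]
theorem chk0 : and2 (D.chkL PF0 0) (Nat.beq (Nat.add 0 PF0.length) 47) = true := by
  decide +kernel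

def PF1 : List DPf := [⟨4, 4, 47, [], [⟨1, 46, []⟩], []⟩,
 ⟨2, 1, 48, [], [⟨1, 47, []⟩], [⟨1, 6, []⟩, ⟨1, 3, []⟩, ⟨1, 1, []⟩, ⟨1, 39, [6]⟩]⟩,
 ⟨2, 4, 45, [], [⟨1, 44, []⟩], [⟨1, 48, []⟩, ⟨1, 40, []⟩, ⟨1, 48, []⟩, ⟨1, 44, [2, 6, 10, 6, 10, 10]⟩]⟩,
 ⟨2, 3, 44, [], [⟨1, 43, []⟩], [⟨1, 28, []⟩, ⟨1, 29, []⟩, ⟨1, 38, []⟩, ⟨1, 49, []⟩, ⟨1, 32, [6, 9, 7, 3, 8, 9, 5]⟩]⟩,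
 ⟨3, 4, 42, [], [⟨1, 50, []⟩], [⟨1, 41, []⟩]⟩,
 ⟨3, 4, 46, [], [⟨1, 50, []⟩], [⟨1, 45, []⟩]⟩,
 ⟨0, 0, 0, [], [], []⟩,
 ⟨2, 1, 54, [], [⟨1, 53, []⟩], [⟨1, 3, []⟩, ⟨1, 6, []⟩, ⟨1, 1, []⟩, ⟨1, 1, []⟩, ⟨1, 53, [2, 6, 6, 2, 5]⟩]⟩,
 ⟨2, 1, 54, [], [⟨1, 53, []⟩], [⟨1, 3, []⟩, ⟨1, 7, []⟩, ⟨1, 1, []⟩, ⟨1, 1, []⟩, ⟨1, 53, [7, 9, 7, 2, 6, 9, 2]⟩]⟩,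
 ⟨4, 1, 54, [], [⟨1, 53, []⟩], []⟩,
 ⟨9, 2, 21, [2, 5, 4, 1, 1], [], [⟨1, 20, [2, 5]⟩, ⟨1, 8, []⟩, ⟨1, 1, []⟩, ⟨1, 7, []⟩, ⟨1, 53, [7, 5, 8, 5]⟩]⟩,
 ⟨4, 2, 58, [], [⟨1, 57, []⟩], []⟩,
 ⟨9, 3, 31, [3, 3, 4, 1, 1], [], [⟨1, 30, [3, 3]⟩, ⟨1, 8, []⟩, ⟨1, 1, []⟩, ⟨1, 53, [10, 7, 2, 2, 5]⟩]⟩,
 ⟨2, 3, 60, [], [⟨1, 59, []⟩], [⟨1, 28, []⟩, ⟨1, 28, []⟩, ⟨1, 28, []⟩, ⟨1, 35, []⟩, ⟨1, 49, []⟩, ⟨1, 49, []⟩, ⟨1, 59, [7, 7, 9, 6, 10]⟩]⟩,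
 ⟨4, 3, 60, [], [⟨1, 59, []⟩], []⟩,
 ⟨6, 5, 57, [0], [], [⟨1, 56, []⟩, ⟨1, 7, []⟩, ⟨1, 2, []⟩, ⟨1, 7, []⟩, ⟨1, 1, []⟩, ⟨1, 53, [2, 6, 7, 9, 2, 10, 5]⟩]⟩,
 ⟨7, 5, 57, [1, 1], [], [⟨1, 56, []⟩, ⟨1, 7, []⟩, ⟨1, 2, []⟩, ⟨1, 7, []⟩, ⟨1, 1, []⟩, ⟨1, 39, [2, 6, 7, 2, 7, 5, 8]⟩, ⟨1, 50, []⟩]⟩,
 ⟨4, 5, 64, [], [⟨1, 63, []⟩], []⟩,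
 ⟨8, 5, 57, [1], [], [⟨1, 56, []⟩, ⟨1, 39, []⟩, ⟨1, 50, []⟩]⟩,
 ⟨4, 5, 66, [], [⟨1, 65, []⟩], []⟩,
 ⟨2, 2, 67, [], [⟨1, 66, []⟩], [⟨1, 19, []⟩, ⟨1, 18, []⟩, ⟨1, 57, [3, 6, 10, 5, 10]⟩]⟩,
 ⟨9, 5, 57, [3, 3, 4, 1, 1], [], [⟨1, 56, [3, 3]⟩, ⟨1, 5, []⟩, ⟨1, 4, []⟩, ⟨1, 7, []⟩, ⟨1, 3, []⟩, ⟨1, 22, [3, 7, 5, 10, 3, 5, 7]⟩]⟩,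
 ⟨4, 5, 69, [], [⟨1, 68, []⟩], []⟩,
 ⟨9, 5, 59, [5, 10, 6, 4, 1, 1], [], [⟨1, 58, [5, 10, 6]⟩, ⟨1, 19, []⟩, ⟨1, 18, []⟩, ⟨1, 26, []⟩, ⟨1, 57, [5, 5, 10, 5, 2, 9, 8]⟩]⟩,
 ⟨9, 5, 62, [2, 5, 4, 1, 1], [], [⟨1, 61, [2, 5]⟩, ⟨1, 28, []⟩, ⟨1, 29, []⟩, ⟨1, 28, []⟩, ⟨1, 28, []⟩, ⟨1, 29, []⟩, ⟨1, 29, []⟩, ⟨1, 28, []⟩, ⟨1, 28, []⟩, ⟨1, 29, []⟩, ⟨1, 38, []⟩, ⟨1, 49, []⟩, ⟨1, 59, [3, 10, 3, 5, 10, 2, 10]⟩]⟩,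
 ⟨0, 0, 0, [], [], []⟩,
 ⟨2, 1, 73, [], [⟨1, 72, []⟩], [⟨1, 5, []⟩, ⟨1, 1, []⟩, ⟨1, 3, []⟩, ⟨1, 2, []⟩, ⟨1, 72, [3, 7, 9, 2, 10, 8]⟩]⟩]
theorem chk1 : and2 (D.chkL PF1 47) (Nat.beq (Nat.add 47 PF1.length) 74) = true := by
  decide +kernel

def PF2 : List DPf := [⟨2, 1, 73, [], [⟨1, 72, []⟩], [⟨1, 4, []⟩, ⟨1, 7, []⟩, ⟨1, 6, []⟩, ⟨1, 2, []⟩, ⟨1, 72, [2, 8, 5, 7, 7, 10, 6]⟩]⟩,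
 ⟨2, 1, 73, [], [⟨1, 72, []⟩], [⟨1, 4, []⟩, ⟨1, 5, []⟩, ⟨1, 5, []⟩, ⟨1, 3, []⟩, ⟨1, 72, [6, 3, 6, 2, 9, 5]⟩]⟩,
 ⟨4, 1, 73, [], [⟨1, 72, []⟩], []⟩,
 ⟨9, 5, 57, [8, 3, 4, 1, 1], [], [⟨1, 56, [8, 3]⟩, ⟨1, 1, []⟩, ⟨1, 8, []⟩, ⟨1, 2, []⟩, ⟨1, 2, []⟩, ⟨1, 72, [8, 6, 10, 8, 6, 9, 9]⟩]⟩,
 ⟨4, 5, 78, [], [⟨1, 77, []⟩], []⟩,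
 ⟨6, 6, 77, [0], [], [⟨1, 76, []⟩, ⟨1, 7, []⟩, ⟨1, 2, []⟩, ⟨1, 7, []⟩, ⟨1, 1, []⟩, ⟨1, 72, [6, 7, 2, 7, 2, 6]⟩]⟩,
 ⟨7, 6, 77, [1, 1], [], [⟨1, 76, []⟩, ⟨1, 1, []⟩, ⟨1, 8, []⟩, ⟨1, 4, []⟩, ⟨1, 4, []⟩, ⟨1, 1, []⟩, ⟨1, 72, [5, 7, 5, 7, 7]⟩]⟩,
 ⟨4, 6, 81, [], [⟨1, 80, []⟩], []⟩,
 ⟨9, 6, 77, [3, 3, 4, 1, 1], [], [⟨1, 76, [3, 3]⟩, ⟨1, 3, []⟩, ⟨1, 7, []⟩, ⟨1, 3, []⟩, ⟨1, 39, [8, 3, 10, 10, 5, 9, 5]⟩, ⟨1, 50, []⟩]⟩,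
 ⟨4, 6, 83, [], [⟨1, 82, []⟩], []⟩,
 ⟨9, 2, 43, [8, 3, 4, 1, 1], [], [⟨1, 42, [8, 3]⟩, ⟨1, 50, []⟩, ⟨1, 18, []⟩, ⟨1, 18, []⟩, ⟨1, 18, []⟩, ⟨1, 18, []⟩, ⟨1, 18, []⟩, ⟨1, 19, []⟩, ⟨1, 18, []⟩, ⟨1, 19, []⟩, ⟨1, 19, []⟩, ⟨1, 18, []⟩, ⟨1, 18, []⟩, ⟨1, 18, []⟩, ⟨1, 26, []⟩, ⟨1, 83, [5, 8, 3, 9, 3, 7, 10]⟩]⟩,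
 ⟨2, 2, 85, [], [⟨1, 84, []⟩], [⟨1, 18, []⟩, ⟨1, 18, []⟩, ⟨1, 19, []⟩, ⟨1, 18, []⟩, ⟨1, 83, [9, 5, 9, 2, 7, 10]⟩]⟩,
 ⟨9, 5, 59, [3, 3, 4, 1, 1], [], [⟨1, 58, [3, 3]⟩, ⟨1, 18, []⟩, ⟨1, 18, []⟩, ⟨1, 19, []⟩, ⟨1, 19, []⟩, ⟨1, 18, []⟩, ⟨1, 83, [2, 5, 7, 5, 7, 9, 2]⟩]⟩,
 ⟨4, 5, 87, [], [⟨1, 86, []⟩], []⟩,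
 ⟨7, 6, 79, [1, 1], [], [⟨1, 78, []⟩, ⟨1, 54, []⟩, ⟨1, 54, []⟩, ⟨1, 55, []⟩, ⟨1, 54, []⟩, ⟨1, 67, []⟩, ⟨1, 86, [10, 7, 5, 9, 5, 5]⟩]⟩,
 ⟨9, 6, 79, [3, 8, 4, 1, 1], [], [⟨1, 78, [3, 8]⟩, ⟨1, 54, []⟩, ⟨1, 54, []⟩, ⟨1, 55, []⟩, ⟨1, 54, []⟩, ⟨1, 54, []⟩, ⟨1, 60, []⟩, ⟨1, 67, []⟩, ⟨1, 77, [6, 3, 8, 6, 8, 9, 2]⟩]⟩,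
 ⟨9, 6, 79, [3, 10, 6, 4, 1, 1], [], [⟨1, 78, [3, 10, 6]⟩, ⟨1, 54, []⟩, ⟨1, 55, []⟩, ⟨1, 54, []⟩, ⟨1, 55, []⟩, ⟨1, 60, []⟩, ⟨1, 86, [2, 6, 10, 3, 5, 10, 7, 3]⟩]⟩,
 ⟨0, 0, 0, [], [], []⟩,
 ⟨2, 2, 92, [], [⟨1, 91, []⟩], [⟨1, 18, []⟩, ⟨1, 18, []⟩, ⟨1, 19, []⟩, ⟨1, 19, []⟩, ⟨1, 18, []⟩, ⟨1, 18, []⟩, ⟨1, 19, []⟩, ⟨1, 19, []⟩, ⟨1, 91, [10, 6, 2, 2, 2, 5, 9]⟩]⟩,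
 ⟨2, 2, 92, [], [⟨1, 91, []⟩], [⟨1, 18, []⟩, ⟨1, 18, []⟩, ⟨1, 18, []⟩, ⟨1, 19, []⟩, ⟨1, 19, []⟩, ⟨1, 18, []⟩, ⟨1, 18, []⟩, ⟨1, 18, []⟩, ⟨1, 19, []⟩, ⟨1, 91, [8, 6, 10, 5, 7, 3]⟩]⟩,
 ⟨4, 2, 92, [], [⟨1, 91, []⟩], []⟩]
theorem chk2 : and2 (D.chkL PF2 74) (Nat.beq (Nat.add 74 PF2.length) 95) = true := by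
  decide +kernel

def PF3 : List DPf := [⟨6, 7, 95, [0], [], [⟨1, 94, []⟩, ⟨1, 18, []⟩, ⟨1, 18, []⟩, ⟨1, 18, []⟩, ⟨1, 18, []⟩, ⟨1, 42, [2, 2, 8, 5]⟩, ⟨1, 50, []⟩]⟩,
 ⟨4, 7, 96, [], [⟨1, 95, []⟩], []⟩,
 ⟨7, 7, 95, [1, 1], [], [⟨1, 94, []⟩, ⟨1, 18, []⟩, ⟨1, 19, []⟩, ⟨1, 18, []⟩, ⟨1, 69, [3, 6, 8, 9, 3, 10, 8]⟩]⟩,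
 ⟨4, 7, 98, [], [⟨1, 97, []⟩], []⟩,
 ⟨9, 7, 95, [3, 3, 4, 1, 1], [], [⟨1, 94, [3, 3]⟩, ⟨1, 18, []⟩, ⟨1, 19, []⟩, ⟨1, 18, []⟩, ⟨1, 18, []⟩, ⟨1, 18, []⟩, ⟨1, 19, []⟩, ⟨1, 18, []⟩, ⟨1, 83, [9, 6, 10, 10, 8, 3]⟩]⟩,
 ⟨4, 7, 100, [], [⟨1, 99, []⟩], []⟩,
 ⟨9, 7, 95, [6, 4, 1, 1], [], [⟨1, 94, [6]⟩, ⟨1, 19, []⟩, ⟨1, 19, []⟩, ⟨1, 18, []⟩, ⟨1, 96, [5, 7, 9, 8, 3, 10, 5]⟩]⟩,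
 ⟨4, 7, 102, [], [⟨1, 101, []⟩], []⟩,
 ⟨9, 7, 95, [4, 1, 1], [], [⟨1, 94, []⟩, ⟨1, 31, [2]⟩]⟩,
 ⟨4, 7, 104, [], [⟨1, 103, []⟩], []⟩,
 ⟨2, 3, 105, [], [⟨1, 104, []⟩], [⟨1, 28, []⟩, ⟨1, 28, []⟩, ⟨1, 28, []⟩, ⟨1, 28, []⟩, ⟨1, 28, []⟩, ⟨1, 35, []⟩, ⟨1, 49, []⟩, ⟨1, 104, [9, 5, 10, 3, 9, 8, 10]⟩]⟩,
 ⟨9, 7, 95, [2, 8, 3, 4, 1, 1], [], [⟨1, 94, [2, 8, 3]⟩, ⟨1, 18, []⟩, ⟨1, 19, []⟩, ⟨1, 18, []⟩, ⟨1, 26, []⟩, ⟨1, 69, [2, 2, 10, 10, 6, 8, 9]⟩]⟩,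
 ⟨4, 7, 107, [], [⟨1, 106, []⟩], []⟩,
 ⟨9, 7, 95, [9, 6, 8, 4, 1, 1], [], [⟨1, 94, [9, 6, 8]⟩, ⟨1, 18, []⟩, ⟨1, 18, []⟩, ⟨1, 18, []⟩, ⟨1, 19, []⟩, ⟨1, 19, []⟩, ⟨1, 18, []⟩, ⟨1, 26, []⟩, ⟨1, 91, [9, 5, 9, 6, 6, 10, 3]⟩]⟩,
 ⟨9, 7, 95, [3, 4, 1, 1], [], [⟨1, 94, [3]⟩, ⟨1, 19, []⟩, ⟨1, 18, []⟩, ⟨1, 26, []⟩, ⟨1, 57, [2, 9, 8, 6, 10, 3]⟩]⟩,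
 ⟨4, 7, 110, [], [⟨1, 109, []⟩], []⟩,
 ⟨2, 5, 111, [], [⟨1, 110, []⟩], [⟨1, 55, []⟩, ⟨1, 60, []⟩, ⟨1, 67, []⟩, ⟨1, 98, [5, 2, 6, 9, 5, 7, 3]⟩]⟩,
 ⟨9, 2, 43, [2, 5, 4, 1, 1], [], [⟨1, 42, [2, 5]⟩, ⟨1, 50, []⟩, ⟨1, 18, []⟩, ⟨1, 18, []⟩, ⟨1, 18, []⟩, ⟨1, 18, []⟩, ⟨1, 19, []⟩, ⟨1, 19, []⟩, ⟨1, 18, []⟩, ⟨1, 19, []⟩, ⟨1, 18, []⟩, ⟨1, 26, []⟩, ⟨1, 96, [7, 5, 2, 6, 8, 9, 7]⟩]⟩,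
 ⟨4, 2, 113, [], [⟨1, 112, []⟩], []⟩,
 ⟨9, 5, 63, [6, 4, 1, 1], [], [⟨1, 62, [6]⟩, ⟨1, 55, []⟩, ⟨1, 54, []⟩, ⟨1, 54, []⟩, ⟨1, 98, [6, 6, 3, 9, 2, 9, 2]⟩]⟩,
 ⟨4, 5, 115, [], [⟨1, 114, []⟩], []⟩,
 ⟨9, 5, 78, [3, 3, 4, 1, 1], [], [⟨1, 77, [3, 3]⟩, ⟨1, 73, []⟩, ⟨1, 75, []⟩, ⟨1, 73, []⟩, ⟨1, 75, []⟩, ⟨1, 73, []⟩, ⟨1, 74, []⟩, ⟨1, 100, [7, 10, 7, 3, 7, 10]⟩]⟩,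
 ⟨4, 5, 117, [], [⟨1, 116, []⟩], []⟩]
theorem chk3 : and2 (D.chkL PF3 95) (Nat.beq (Nat.add 95 PF3.length) 118) = true := by
  decide +kernel

def PF4 : List DPf := [⟨7, 5, 62, [1, 1], [], [⟨1, 61, []⟩, ⟨1, 28, []⟩, ⟨1, 28, []⟩, ⟨1, 28, []⟩, ⟨1, 28, []⟩, ⟨1, 29, []⟩, ⟨1, 104, [3, 7, 9, 3, 5, 10]⟩]⟩,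
 ⟨4, 5, 119, [], [⟨1, 118, []⟩], []⟩,
 ⟨6, 6, 79, [0], [], [⟨1, 78, []⟩, ⟨1, 54, []⟩, ⟨1, 55, []⟩, ⟨1, 60, []⟩, ⟨1, 67, []⟩, ⟨1, 107, [5, 5, 3, 9, 7]⟩]⟩,
 ⟨4, 6, 121, [], [⟨1, 120, []⟩], []⟩,
 ⟨9, 6, 79, [2, 5, 4, 1, 1], [], [⟨1, 78, [2, 5]⟩, ⟨1, 54, []⟩, ⟨1, 55, []⟩, ⟨1, 55, []⟩, ⟨1, 54, []⟩, ⟨1, 54, []⟩, ⟨1, 60, []⟩, ⟨1, 107, [2, 7, 7, 3, 10, 10]⟩]⟩,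
 ⟨4, 6, 123, [], [⟨1, 122, []⟩], []⟩,
 ⟨9, 6, 79, [8, 10, 4, 1, 1], [], [⟨1, 78, [8, 10]⟩, ⟨1, 67, []⟩, ⟨1, 114, [10, 10, 8, 2, 8, 9, 6]⟩]⟩,
 ⟨4, 6, 125, [], [⟨1, 124, []⟩], []⟩,
 ⟨9, 6, 83, [2, 5, 4, 1, 1], [], [⟨1, 82, [2, 5]⟩, ⟨1, 18, []⟩, ⟨1, 18, []⟩, ⟨1, 18, []⟩, ⟨1, 18, []⟩, ⟨1, 18, []⟩, ⟨1, 19, []⟩, ⟨1, 19, []⟩, ⟨1, 18, []⟩, ⟨1, 19, []⟩, ⟨1, 26, []⟩, ⟨1, 112, [10, 7, 7, 5, 9, 3]⟩]⟩,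
 ⟨4, 6, 127, [], [⟨1, 126, []⟩], []⟩,
 ⟨9, 7, 95, [2, 5, 4, 1, 1], [], [⟨1, 94, [2, 5]⟩, ⟨1, 18, []⟩, ⟨1, 18, []⟩, ⟨1, 18, []⟩, ⟨1, 18, []⟩, ⟨1, 18, []⟩, ⟨1, 112, [2, 5]⟩]⟩,
 ⟨6, 7, 104, [0], [], [⟨1, 103, []⟩, ⟨1, 35, []⟩, ⟨1, 104, []⟩]⟩,
 ⟨9, 7, 104, [6, 4, 1, 1], [], [⟨1, 103, [6]⟩, ⟨1, 28, []⟩, ⟨1, 28, []⟩, ⟨1, 29, []⟩, ⟨1, 35, []⟩, ⟨1, 38, []⟩, ⟨1, 104, [8, 10, 2, 6, 8, 3]⟩]⟩,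
 ⟨9, 7, 120, [8, 3, 4, 1, 1], [], [⟨1, 119, [8, 3]⟩, ⟨1, 54, []⟩, ⟨1, 54, []⟩, ⟨1, 55, []⟩, ⟨1, 55, []⟩, ⟨1, 54, []⟩, ⟨1, 55, []⟩, ⟨1, 55, []⟩, ⟨1, 54, []⟩, ⟨1, 54, []⟩, ⟨1, 116, [9, 3, 6, 8, 10]⟩]⟩,
 ⟨9, 7, 107, [8, 3, 4, 1, 1], [], [⟨1, 106, [8, 3]⟩, ⟨1, 55, []⟩, ⟨1, 54, []⟩, ⟨1, 55, []⟩, ⟨1, 55, []⟩, ⟨1, 54, []⟩, ⟨1, 55, []⟩, ⟨1, 55, []⟩, ⟨1, 67, []⟩, ⟨1, 116, [10, 10, 5, 2, 7, 2]⟩]⟩,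
 ⟨4, 7, 133, [], [⟨1, 132, []⟩], []⟩,
 ⟨9, 7, 107, [2, 9, 2, 4, 1, 1], [], [⟨1, 106, [2, 9, 2]⟩, ⟨1, 54, []⟩, ⟨1, 54, []⟩, ⟨1, 55, []⟩, ⟨1, 55, []⟩, ⟨1, 54, []⟩, ⟨1, 55, []⟩, ⟨1, 60, []⟩, ⟨1, 67, []⟩, ⟨1, 107, [9, 5, 7, 2, 6, 10]⟩]⟩,
 ⟨9, 7, 100, [2, 8, 4, 1, 1], [], [⟨1, 99, [2, 8]⟩, ⟨1, 75, []⟩, ⟨1, 73, []⟩, ⟨1, 74, []⟩, ⟨1, 75, []⟩, ⟨1, 85, []⟩, ⟨1, 126, [3, 9, 3, 9, 5, 5, 10]⟩]⟩,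
 ⟨4, 7, 136, [], [⟨1, 135, []⟩], []⟩,
 ⟨0, 0, 0, [], [], []⟩,
 ⟨2, 5, 138, [], [⟨1, 137, []⟩], [⟨1, 54, []⟩, ⟨1, 55, []⟩, ⟨1, 54, []⟩, ⟨1, 55, []⟩, ⟨1, 55, []⟩, ⟨1, 54, []⟩, ⟨1, 55, []⟩, ⟨1, 54, []⟩, ⟨1, 55, []⟩, ⟨1, 54, []⟩, ⟨1, 137, [5, 5, 8, 10, 10, 7]⟩]⟩]
theorem chk4 : and2 (D.chkL PF4 118) (Nat.beq (Nat.add 118 PF4.length) 139) = true := by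
  decide +kernel

end H29.HND
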