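import Mathlib
import Cfsg.Agent.H29.HND.B

set_option autoImplicit false
set_option maxRecDepth 100000
set_option Elab.async false
set_option linter.all false

namespace H29.HND

open H19
def PF5 : List DPf := [⟨2, 5, 138, [], [⟨1, 137, []⟩], [⟨1, 54, []⟩, ⟨1, 55, []⟩, ⟨1, 55, []⟩, ⟨1, 54, []⟩, ⟨1, 55, []⟩, ⟨1, 55, []⟩, ⟨1, 54, []⟩, ⟨1, 54, []⟩, ⟨1, 60, []⟩, ⟨1, 137, [2, 9, 5, 5, 5, 10, 3]⟩]⟩,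
 ⟨4, 5, 138, [], [⟨1, 137, []⟩], []⟩,
 ⟨6, 8, 141, [0], [], [⟨1, 140, []⟩, ⟨1, 54, []⟩, ⟨1, 55, []⟩, ⟨1, 55, []⟩, ⟨1, 54, []⟩, ⟨1, 55, []⟩, ⟨1, 54, []⟩, ⟨1, 54, []⟩, ⟨1, 55, []⟩, ⟨1, 55, []⟩, ⟨1, 55, []⟩, ⟨1, 137, [5, 9, 2, 5, 7, 3, 10]⟩]⟩,
 ⟨7, 8, 141, [1, 1], [], [⟨1, 140, []⟩, ⟨1, 116, [6, 3, 3, 8, 9]⟩]⟩,
 ⟨4, 8, 143, [], [⟨1, 142, []⟩], []⟩,
 ⟨8, 8, 141, [1], [], [⟨1, 140, []⟩, ⟨1, 54, []⟩, ⟨1, 55, []⟩, ⟨1, 55, []⟩, ⟨1, 54, []⟩, ⟨1, 55, []⟩, ⟨1, 54, []⟩, ⟨1, 54, []⟩, ⟨1, 55, []⟩, ⟨1, 55, []⟩, ⟨1, 55, []⟩, ⟨1, 116, [2, 5, 10, 10, 10, 5, 8]⟩]⟩,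
 ⟨4, 8, 145, [], [⟨1, 144, []⟩], []⟩,
 ⟨9, 8, 141, [3, 3, 4, 1, 1], [], [⟨1, 140, [3, 3]⟩, ⟨1, 54, []⟩, ⟨1, 54, []⟩, ⟨1, 55, []⟩, ⟨1, 54, []⟩, ⟨1, 60, []⟩, ⟨1, 77, [2, 9, 5, 3, 7, 9, 9]⟩]⟩,
 ⟨4, 8, 147, [], [⟨1, 146, []⟩], []⟩,
 ⟨9, 8, 141, [8, 3, 4, 1, 1], [], [⟨1, 140, [8, 3]⟩, ⟨1, 54, []⟩, ⟨1, 54, []⟩, ⟨1, 55, []⟩, ⟨1, 55, []⟩, ⟨1, 54, []⟩, ⟨1, 55, []⟩, ⟨1, 67, []⟩, ⟨1, 71, [5, 5, 2, 9, 8]⟩]⟩,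
 ⟨4, 8, 149, [], [⟨1, 148, []⟩], []⟩,
 ⟨2, 5, 150, [], [⟨1, 149, []⟩], [⟨1, 54, []⟩, ⟨1, 54, []⟩, ⟨1, 55, []⟩, ⟨1, 54, []⟩, ⟨1, 55, []⟩, ⟨1, 55, []⟩, ⟨1, 54, []⟩, ⟨1, 54, []⟩, ⟨1, 55, []⟩, ⟨1, 67, []⟩, ⟨1, 137, [2, 7, 9, 5, 10, 6, 2]⟩]⟩,
 ⟨9, 8, 141, [6, 4, 1, 1], [], [⟨1, 140, [6]⟩, ⟨1, 55, []⟩, ⟨1, 60, []⟩, ⟨1, 98, [5, 8, 10, 2, 10, 5, 10]⟩]⟩,
 ⟨4, 8, 152, [], [⟨1, 151, []⟩], []⟩,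
 ⟨9, 8, 141, [2, 7, 7, 10, 4, 1, 1], [], [⟨1, 140, [2, 7, 7, 10]⟩, ⟨1, 55, []⟩, ⟨1, 55, []⟩, ⟨1, 54, []⟩, ⟨1, 55, []⟩, ⟨1, 54, []⟩, ⟨1, 55, []⟩, ⟨1, 67, []⟩, ⟨1, 137, [5, 2, 9, 6, 8]⟩]⟩,
 ⟨0, 0, 0, [], [], []⟩,
 ⟨2, 7, 155, [], [⟨1, 154, []⟩], [⟨1, 92, []⟩, ⟨1, 93, []⟩, ⟨1, 92, []⟩, ⟨1, 154, [6, 2, 5, 8]⟩]⟩,
 ⟨2, 7, 155, [], [⟨1, 154, []⟩], [⟨1, 93, []⟩, ⟨1, 93, []⟩, ⟨1, 92, []⟩, ⟨1, 93, []⟩, ⟨1, 154, [5, 8, 5, 5, 8, 5]⟩]⟩,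
 ⟨2, 7, 155, [], [⟨1, 154, []⟩], [⟨1, 93, []⟩, ⟨1, 92, []⟩, ⟨1, 105, []⟩, ⟨1, 154, [2, 10, 7, 10, 2, 2, 7]⟩]⟩,
 ⟨4, 7, 155, [], [⟨1, 154, []⟩], []⟩,
 ⟨5, 9, 159, [1, 1], [], [⟨1, 158, []⟩, ⟨1, 93, []⟩, ⟨1, 92, []⟩, ⟨1, 102, [9, 9, 8, 5, 5, 2]⟩, ⟨1, 93, []⟩, ⟨1, 92, []⟩, ⟨1, 111, []⟩, ⟨1, 130, [8, 9, 7, 10, 5, 9, 9]⟩, ⟨1, 93, []⟩, ⟨1, 93, []⟩, ⟨1, 92, []⟩, ⟨1, 111, []⟩, ⟨1, 101, [3, 5, 5, 8, 5]⟩]⟩,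
 ⟨4, 9, 160, [], [⟨1, 159, []⟩], []⟩,
 ⟨2, 7, 161, [], [⟨1, 160, []⟩], [⟨1, 92, []⟩, ⟨1, 93, []⟩, ⟨1, 93, []⟩, ⟨1, 154, [7, 9, 9, 9, 6, 7, 9]⟩]⟩]
theorem chk5 : and2 (D.chkL PF5 139) (Nat.beq (Nat.add 139 PF5.length) 162) = true := by
  decide +kernel

def PF6 : List DPf := [⟨6, 9, 159, [0], [], [⟨1, 158, []⟩, ⟨1, 93, []⟩, ⟨1, 92, []⟩, ⟨1, 102, [9, 9, 8, 5, 5, 2]⟩]⟩,
 ⟨4, 9, 163, [], [⟨1, 162, []⟩], []⟩,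
 ⟨2, 7, 164, [], [⟨1, 163, []⟩], [⟨1, 154, [9, 9, 8, 5, 5, 2]⟩]⟩,
 ⟨9, 9, 159, [3, 3, 4, 1, 1], [], [⟨1, 158, [3, 3]⟩, ⟨1, 93, []⟩, ⟨1, 92, []⟩, ⟨1, 93, []⟩, ⟨1, 93, []⟩, ⟨1, 92, []⟩, ⟨1, 93, []⟩, ⟨1, 93, []⟩, ⟨1, 135, [6, 7, 5, 7, 3, 10, 2]⟩]⟩,
 ⟨4, 9, 166, [], [⟨1, 165, []⟩], []⟩,
 ⟨2, 7, 167, [], [⟨1, 166, []⟩], [⟨1, 93, []⟩, ⟨1, 93, []⟩, ⟨1, 92, []⟩, ⟨1, 111, []⟩, ⟨1, 154, [3, 9, 2, 5, 8, 3]⟩]⟩,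
 ⟨9, 9, 159, [8, 3, 4, 1, 1], [], [⟨1, 158, [8, 3]⟩, ⟨1, 93, []⟩, ⟨1, 93, []⟩, ⟨1, 92, []⟩, ⟨1, 111, []⟩, ⟨1, 154, [2, 9, 8, 5, 9, 3]⟩]⟩,
 ⟨3, 1, 40, [], [], [⟨1, 39, []⟩, ⟨1, 50, []⟩]⟩,
 ⟨3, 2, 43, [], [], [⟨1, 42, []⟩, ⟨1, 50, []⟩]⟩,
 ⟨3, 2, 53, [], [], [⟨1, 52, []⟩, ⟨1, 50, []⟩]⟩]
theorem chk6 : and2 (D.chkL PF6 162) (Nat.beq (Nat.add 162 PF6.length) 172) = true := by
  decide +kernel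

theorem live0 : D.chkLive 172 [0, 1, 2, 3, 5, 6, 7, 8, 9] l0 = true := by decide +kernel

theorem live1 : D.chkLive 172 [0, 1, 2, 3, 5, 6, 7, 8, 9] l1 = true := by decide +kernel

theorem live2 : D.chkLive 172 [0, 1, 2, 3, 5, 6, 7, 8, 9] l2 = true := by decide +kernel

theorem live3 : D.chkLive 172 [0, 1, 2, 3, 5, 6, 7, 8, 9] l3 = true := by decide +kernel

theorem live4 : D.chkLive 172 [0, 1, 2, 3, 5, 6, 7, 8, 9] l4 = true := by decide +kernel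

theorem live5 : D.chkLive 172 [0, 1, 2, 3, 5, 6, 7, 8, 9] l5 = true := by decide +kernel

theorem live6 : D.chkLive 172 [0, 1, 2, 3, 5, 6, 7, 8, 9] l6 = true := by decide +kernel

theorem live7 : D.chkLive 172 [0, 1, 2, 3, 5, 6, 7, 8, 9] l7 = true := by decide +kernel

theorem live8 : D.chkLive 172 [0, 1, 2, 3, 5, 6, 7, 8, 9] l8 = true := by decide +kernel

theorem cov0 : Reach (wNets HK.nets l0.gw) [0, 1, 2] (startSet HK.nets (ivOf HKM.ivl) l0.pw) (ones 1408) :=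
  reach_of_chk (r := 8) (HKM.hn.wNets _) (by decide +kernel)

theorem cov1 : Reach (wNets HK.nets l1.gw) [0, 1, 2, 3] (startSet HK.nets (ivOf HKM.ivl) l1.pw) (ones 1408) :=
  reach_of_chk (r := 4) (HKM.hn.wNets _) (by decide +kernel)

theorem cov2 : Reach (wNets HK.nets l2.gw) [0, 1, 2] (startSet HK.nets (ivOf HKM.ivl) l2.pw) (ones 1408) :=
  reach_of_chk (r := 6) (HKM.hn.wNets _) (by decide +kernel)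

theorem crd2 : 5040 ≤ Nat.card (genW HK.σ l2.gw) :=
  le_card_genW2 (N := 1408) (k := 11) (L := [0, 1, 2, 3, 4]) (ws := [[0], [1], [2], [2, 1, 0, 1, 2, 0, 0, 0, 0, 1, 0], [2, 1, 2, 0, 0, 1]])
    (ch := [(44, 3, 504, [3, 4]), (8, 3, 10, [])]) HKM.hn HK.hρ (by decide +kernel) (by decide +kernel)

theorem cov3 : Reach (wNets HK.nets l3.gw) [0, 1, 2, 3, 4] (startSet HK.nets (ivOf HKM.ivl) l3.pw) (ones 1408) :=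
  reach_of_chk (r := 4) (HKM.hn.wNets _) (by decide +kernel)

theorem crd3 : 80640 ≤ Nat.card (genW HK.σ l3.gw) :=
  le_card_genW2 (N := 1408) (k := 11) (L := [0, 1, 2, 3, 4, 5, 6, 7]) (ws := [[0], [1], [2], [3], [4], [0, 4, 0, 4, 2], [4, 1, 1, 4, 0, 0], [1, 1, 4, 0, 0, 0, 1, 1, 4]])
    (ch := [(7, 2, 672, [5, 6, 7]), (8, 3, 60, [7]), (16, 1, 2, [])]) HKM.hn HK.hρ (by decide +kernel) (by decide +kernel)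

theorem cov4 : Reach (wNets HK.nets l4.gw) [0, 1, 2, 3] (startSet HK.nets (ivOf HKM.ivl) l4.pw) (ones 1408) :=
  reach_of_chk (r := 4) (HKM.hn.wNets _) (by decide +kernel)

theorem crd4 : 1440 ≤ Nat.card (genW HK.σ l4.gw) :=
  le_card_genW2 (N := 1408) (k := 11) (L := [0, 1, 2, 3, 4, 5]) (ws := [[0], [1], [2], [3], [3, 0, 1, 3, 2], [0, 1, 2, 1, 2]])
    (ch := [(37, 3, 360, [4, 5]), (16, 1, 4, [])]) HKM.hn HK.hρ (by decide +kernel) (by decide +kernel)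

theorem cov5 : Reach (wNets HK.nets l5.gw) [0, 1, 2, 3] (startSet HK.nets (ivOf HKM.ivl) l5.pw) (ones 1408) :=
  reach_of_chk (r := 3) (HKM.hn.wNets _) (by decide +kernel)

theorem crd5 : 500 ≤ Nat.card (genW HK.σ l5.gw) :=
  le_card_genW2 (N := 1408) (k := 11) (L := [0, 1, 2, 3, 4]) (ws := [[0], [1], [2], [3], [1]])
    (ch := [(17, 3, 250, [4]), (3, 1, 2, [])]) HKM.hn HK.hρ (by decide +kernel) (by decide +kernel)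

theorem cov6 : Reach (wNets HK.nets l6.gw) [0, 1, 2, 3] (startSet HK.nets (ivOf HKM.ivl) l6.pw) (ones 1408) :=
  reach_of_chk (r := 3) (HKM.hn.wNets _) (by decide +kernel)

theorem crd6 : 240 ≤ Nat.card (genW HK.σ l6.gw) :=
  le_card_genW2 (N := 1408) (k := 11) (L := [0, 1, 2, 3, 4]) (ws := [[0], [1], [2], [3], [3, 1, 0, 3]])
    (ch := [(7, 3, 120, [4]), (16, 1, 2, [])]) HKM.hn HK.hρ (by decide +kernel) (by decide +kernel)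

theorem cov7 : Reach (wNets HK.nets l7.gw) [0, 1, 2] (startSet HK.nets (ivOf HKM.ivl) l7.pw) (ones 1408) :=
  reach_of_chk (r := 12) (HKM.hn.wNets _) (by decide +kernel)

theorem crd7 : 640 ≤ Nat.card (genW HK.σ l7.gw) :=
  le_card_genW2 (N := 1408) (k := 11) (L := [0, 1, 2, 3]) (ws := [[0], [1], [2], [2, 2, 2, 2, 2, 2, 2, 0, 2, 2, 2]])
    (ch := [(7, 10, 320, [3]), (0, 1, 2, [])]) HKM.hn HK.hρ (by decide +kernel) (by decide +kernel)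

theorem cov8 : Reach (wNets HK.nets l8.gw) [0, 1, 2, 3, 4, 5] (startSet HK.nets (ivOf HKM.ivl) l8.pw) (ones 1408) :=
  reach_of_chk (r := 4) (HKM.hn.wNets _) (by decide +kernel)

theorem crd8 : 30720 ≤ Nat.card (genW HK.σ l8.gw) :=
  le_card_genW2 (N := 1408) (k := 11) (L := [0, 1, 2, 3, 4, 5, 6, 7]) (ws := [[0], [1], [2], [3], [4], [5], [0], [0, 0, 2]])
    (ch := [(0, 4, 1280, [6, 7]), (50, 4, 24, [])]) HKM.hn HK.hρ (by decide +kernel) (by decide +kernel)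

end H29.HND
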